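import Mathlib

/-!
# Commutators in alternating groups (helper155)

`exists_comm`: for `n ≥ 5` every even permutation `γ` is `a * b * a⁻¹ * b⁻¹` with `a`, `b` even, where `b` has two
cycles of length two.
-/

set_option autoImplicit false
set_option linter.unusedSectionVars false

namespace Cfsg.Agent.H155.AltComm

open Equiv Equiv.Perm

variable {α : Type*} [Fintype α] [DecidableEq α]

/-- `σ` is inverted by an involution `β` with support in the support of `σ`; `x`, `y` are the numbers of points
moved by `β` and `σ * β`. -/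
def S (σ : Perm α) (x y : ℕ) : Prop :=
  ∃ β : Perm α, β * β = 1 ∧ σ * β * (σ * β) = 1 ∧ β.support ⊆ σ.support ∧ (σ * β).support ⊆ σ.support ∧
    β.support.card = x ∧ (σ * β).support.card = y ∧ (σ = 1 ∨ x + y < 2 * σ.support.card)

theorem S_symm {σ : Perm α} {x y : ℕ} (h : S σ x y) : S σ y x := by
  obtain ⟨β, h1, h2, h3, h4, h5, h6, h7⟩ := h
  have e1 : σ * (σ * β) = σ * β * σ⁻¹ := by
    have : β * σ⁻¹ = σ * β := by
      have h8 : (σ * β)⁻¹ = σ * β := inv_eq_of_mul_eq_one_left h2
      have h9 : β⁻¹ = β := inv_eq_of_mul_eq_one_left h1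
      rw [mul_inv_rev, h9] at h8
      exact h8
    rw [mul_assoc σ β, this]
  refine ⟨σ * β, h2, ?_, h4, ?_, h6, ?_, ?_⟩
  · rw [e1]
    have : σ * β * σ⁻¹ * (σ * β * σ⁻¹) = σ * (β * β) * σ⁻¹ := by group
    rw [this, h1]; group
  · rw [e1]
    intro z hz
    have h8 : (σ * β * σ⁻¹).support = β.support.map σ.toEmbedding := Perm.support_conj
    rw [h8, Finset.mem_map] at hz
    obtain ⟨w, hw, rfl⟩ := hz
    exact Perm.apply_mem_support.2 (h3 hw)
  · rw [e1, Perm.card_support_conj, h5]
  · rcases h7 with h7 | h7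
    · exact Or.inl h7
    · right; omega

theorem S_mul {σ τ : Perm α} (hd : Disjoint σ τ) {x y x' y' : ℕ} (h : S σ x y) (h' : S τ x' y')
    (hlt : σ ≠ 1) : S (σ * τ) (x + x') (y + y') := by
  obtain ⟨β, h1, h2, h3, h4, h5, h6, h7⟩ := h
  obtain ⟨β', h1', h2', h3', h4', h5', h6', h7'⟩ := h'
  have hds : _root_.Disjoint σ.support τ.support := disjoint_iff_disjoint_support.1 hd
  have d1 : Disjoint β β' := disjoint_iff_disjoint_support.2 (hds.mono h3 h3')
  have d2 : Disjoint (σ * β) (τ * β') := disjoint_iff_disjoint_support.2 (hds.mono h4 h4')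
  have d3 : Disjoint β τ := disjoint_iff_disjoint_support.2 (hds.mono_left h3)
  have e1 : σ * τ * (β * β') = (σ * β) * (τ * β') := by
    have : τ * β = β * τ := d3.commute.eq.symm
    calc σ * τ * (β * β') = σ * (τ * β) * β' := by group
      _ = (σ * β) * (τ * β') := by rw [this]; group
  have hs : (σ * τ).support = σ.support ∪ τ.support := hd.support_mul
  have hx : x ≤ σ.support.card := h5 ▸ Finset.card_le_card h3
  have hy : y ≤ σ.support.card := h6 ▸ Finset.card_le_card h4
  have hx' : x' ≤ τ.support.card := h5' ▸ Finset.card_le_card h3'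
  have hy' : y' ≤ τ.support.card := h6' ▸ Finset.card_le_card h4'
  refine ⟨β * β', ?_, ?_, ?_, ?_, ?_, ?_, ?_⟩
  · have : β * β' * (β * β') = (β * β) * (β' * β') := by
      rw [mul_assoc, ← mul_assoc β' β, d1.commute.eq.symm]; group
    rw [this, h1, h1', one_mul]
  · rw [e1]
    have : σ * β * (τ * β') * (σ * β * (τ * β')) = (σ * β * (σ * β)) * (τ * β' * (τ * β')) := by
      have h8 : (τ * β') * (σ * β) = (σ * β) * (τ * β') := d2.commute.eq.symm
      calc σ * β * (τ * β') * (σ * β * (τ * β')) = σ * β * ((τ * β') * (σ * β)) * (τ * β') := by group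
        _ = _ := by rw [h8]; group
    rw [this, h2, h2', one_mul]
  · rw [d1.support_mul, hs]; exact Finset.union_subset_union h3 h3'
  · rw [e1, d2.support_mul, hs]; exact Finset.union_subset_union h4 h4'
  · rw [d1.card_support_mul, h5, h5']
  · rw [e1, d2.card_support_mul, h6, h6']
  · right
    rw [hd.card_support_mul]
    rcases h7 with h7 | h7
    · exact absurd h7 hlt
    · omega

/-- The key property: balanced involutions for even permutations. -/
def P (σ : Perm α) : Prop :=
  (sign σ = 1 → ∃ x, S σ x x) ∧ (sign σ = -1 → ∃ x, S σ x (x + 2))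

/-! ### the rotation of `ZMod l` -/

section zmod

variable {l : ℕ} [NeZero l]

theorem support_neg_odd (ho : Odd l) : (Equiv.neg (ZMod l)).support.card = l - 1 := by
  have h2 : IsUnit (2 : ZMod l) := by
    have := (ZMod.unitOfCoprime 2 (Nat.coprime_two_left.2 ho)).isUnit
    simpa using this
  have h1 : (Equiv.neg (ZMod l)).support = Finset.univ.erase 0 := by
    ext i
    rw [Perm.mem_support, Equiv.neg_apply, Finset.mem_erase]
    simp only [Finset.mem_univ, and_true, ne_eq, not_iff_not]
    constructor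
    · intro h
      have h3 : (2 : ZMod l) * i = 2 * 0 := by
        rw [two_mul, mul_zero]; nth_rw 1 [← h]; ring
      exact h2.mul_left_cancel h3
    · rintro rfl; simp
  rw [h1, Finset.card_erase_of_mem (Finset.mem_univ _), Finset.card_univ, ZMod.card]

theorem support_rot_neg_odd (ho : Odd l) :
    ((Equiv.addRight (1 : ZMod l)) * (Equiv.neg (ZMod l))).support.card = l - 1 := by
  have h2 : IsUnit (2 : ZMod l) := by
    have := (ZMod.unitOfCoprime 2 (Nat.coprime_two_left.2 ho)).isUnit
    simpa using this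
  obtain ⟨u, hu⟩ := h2
  have h1 : ((Equiv.addRight (1 : ZMod l)) * (Equiv.neg (ZMod l))).support =
      Finset.univ.erase (((u⁻¹ : (ZMod l)ˣ)) : ZMod l) := by
    ext i
    rw [Perm.mem_support, Perm.mul_apply, Equiv.neg_apply, Equiv.coe_addRight, Finset.mem_erase]
    simp only [Finset.mem_univ, and_true, ne_eq, not_iff_not]
    have h3 : (2 : ZMod l) * i = 1 ↔ i = ((u⁻¹ : (ZMod l)ˣ) : ZMod l) := by
      rw [← hu, Units.mul_eq_one_iff_inv_eq]
      exact eq_comm
    rw [← h3]
    constructor
    · intro h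
      rw [two_mul]; nth_rw 1 [← h]; ring
    · intro h
      rw [← h]; ring
  rw [h1, Finset.card_erase_of_mem (Finset.mem_univ _), Finset.card_univ, ZMod.card]

theorem support_neg_even (he : Even l) : (Equiv.neg (ZMod l)).support.card = l - 2 := by
  obtain ⟨k, hk⟩ := he
  have hl0 : l ≠ 0 := NeZero.ne l
  have h1 : (Equiv.neg (ZMod l)).support = (Finset.univ.erase 0).erase (k : ZMod l) := by
    ext i
    rw [Perm.mem_support, Equiv.neg_apply, Finset.mem_erase, Finset.mem_erase]
    simp only [Finset.mem_univ, and_true, ne_eq]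
    have h3 : -i = i ↔ (i = k ∨ i = 0) := by
      rw [ZMod.neg_eq_self_iff]
      constructor
      · rintro (h | h)
        · exact Or.inr h
        · left
          have h4 : i.val = k := by omega
          rw [← h4, ZMod.natCast_zmod_val]
      · rintro (rfl | rfl)
        · right
          rw [ZMod.val_natCast, Nat.mod_eq_of_lt (by omega)]
          omega
        · left; rfl
    rw [h3, not_or]
  have hk0 : (k : ZMod l) ≠ 0 := by
    intro h
    rw [ZMod.natCast_eq_zero_iff] at h
    have := Nat.le_of_dvd (by omega) h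
    omega
  rw [h1, Finset.card_erase_of_mem (Finset.mem_erase.2 ⟨hk0, Finset.mem_univ _⟩),
    Finset.card_erase_of_mem (Finset.mem_univ _), Finset.card_univ, ZMod.card]
  omega

theorem support_rot_neg_even (he : Even l) :
    ((Equiv.addRight (1 : ZMod l)) * (Equiv.neg (ZMod l))).support.card = l := by
  have h1 : ((Equiv.addRight (1 : ZMod l)) * (Equiv.neg (ZMod l))).support = Finset.univ := by
    ext i
    rw [Perm.mem_support, Perm.mul_apply, Equiv.neg_apply, Equiv.coe_addRight]
    simp only [Finset.mem_univ, ne_eq, iff_true]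
    intro h
    have h3 : (2 : ZMod l) * i = 1 := by
      rw [two_mul]; nth_rw 1 [← h]; ring
    have h4 := congrArg (ZMod.castHom (he.two_dvd) (ZMod 2)) h3
    rw [map_mul, map_one, map_ofNat] at h4
    have h5 : (2 : ZMod 2) = 0 := by decide
    rw [h5, zero_mul] at h4
    exact absurd h4 (by decide)
  rw [h1, Finset.card_univ, ZMod.card]

end zmod

/-! ### cycles -/

theorem exists_model {σ : Perm α} (hσ : σ.IsCycle) {l : ℕ} [NeZero l] (hl : σ.support.card = l) :
    ∃ e : ZMod l ≃ Subtype (fun y => y ∈ σ.support), σ = (Equiv.addRight (1 : ZMod l)).extendDomain e := by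
  obtain ⟨x0, hx0, hx⟩ := id hσ
  have hord : orderOf σ = l := by rw [hσ.orderOf, hl]
  let f : ZMod l → Subtype (fun y => y ∈ σ.support) := fun i =>
    ⟨(σ ^ i.val) x0, by rw [Perm.pow_apply_mem_support, Perm.mem_support]; exact hx0⟩
  have hsurj : Function.Surjective f := by
    rintro ⟨y, hy⟩
    rw [Perm.mem_support] at hy
    obtain ⟨i, hi, rfl⟩ := (hx hy).exists_pow_eq'
    rw [hord] at hi
    refine ⟨(i : ZMod l), ?_⟩
    apply Subtype.ext
    show (σ ^ (i : ZMod l).val) x0 = (σ ^ i) x0
    rw [ZMod.val_natCast, Nat.mod_eq_of_lt hi]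
  have hbij : Function.Bijective f := by
    rw [Fintype.bijective_iff_surjective_and_card]
    refine ⟨hsurj, ?_⟩
    rw [ZMod.card, Fintype.card_subtype, Finset.filter_mem_eq_inter, Finset.univ_inter, hl]
  have hf : ∀ i, ((Equiv.ofBijective f hbij i : Subtype (fun y => y ∈ σ.support)) : α) = (σ ^ i.val) x0 :=
    fun i => rfl
  refine ⟨Equiv.ofBijective f hbij, ?_⟩
  ext y
  by_cases hy : y ∈ σ.support
  · obtain ⟨i, hi⟩ := (Equiv.ofBijective f hbij).surjective ⟨y, hy⟩
    have hy' : y = (Equiv.ofBijective f hbij i : Subtype (fun y => y ∈ σ.support)) := by rw [hi]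
    rw [hy', Perm.extendDomain_apply_image, hf, hf]
    have h1 : (i + 1).val ≡ i.val + 1 [MOD l] := by
      rw [ZMod.val_add]
      refine (Nat.mod_modEq _ _).trans (Nat.ModEq.add_left _ ?_)
      have := ZMod.val_natCast l 1
      rw [Nat.cast_one] at this
      rw [this]
      exact Nat.mod_modEq _ _
    have h2 : (i + 1).val ≡ i.val + 1 [MOD orderOf σ] := by rw [hord]; exact h1
    show σ ((σ ^ i.val) x0) = (σ ^ (i + 1).val) x0
    rw [(pow_eq_pow_iff_modEq (x := σ)).2 h2, pow_succ', Perm.mul_apply]
  · rw [Perm.extendDomain_apply_not_subtype _ _ hy]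
    exact Perm.notMem_support.1 hy

theorem P_cycle {σ : Perm α} (hσ : σ.IsCycle) : P σ := by
  have hl2 : 2 ≤ σ.support.card := hσ.two_le_card_support
  obtain ⟨l, hl⟩ : ∃ l, σ.support.card = l := ⟨_, rfl⟩
  rw [hl] at hl2
  have : NeZero l := ⟨by omega⟩
  obtain ⟨e, he⟩ := exists_model hσ hl
  set β : Perm α := (Equiv.neg (ZMod l)).extendDomain e with hβ
  have hsub : ∀ g : Perm (ZMod l), (g.extendDomain e).support ⊆ σ.support := by
    intro g y hy
    by_contra h
    exact (Perm.mem_support.1 hy) (Perm.extendDomain_apply_not_subtype _ _ h)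
  have h1 : β * β = 1 := by
    rw [hβ, Perm.extendDomain_mul]
    have : (Equiv.neg (ZMod l)) * (Equiv.neg (ZMod l)) = 1 := by
      ext i; simp
    rw [this, Perm.extendDomain_one]
  have e2 : σ * β = ((Equiv.addRight (1 : ZMod l)) * (Equiv.neg (ZMod l))).extendDomain e := by
    conv_lhs => rw [he]
    rw [hβ, Perm.extendDomain_mul]
  have h2 : σ * β * (σ * β) = 1 := by
    rw [e2, Perm.extendDomain_mul]
    have : ((Equiv.addRight (1 : ZMod l)) * (Equiv.neg (ZMod l))) *
        ((Equiv.addRight (1 : ZMod l)) * (Equiv.neg (ZMod l))) = 1 := by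
      ext i
      simp
    rw [this, Perm.extendDomain_one]
  have hsg := hσ.sign
  rw [hl] at hsg
  constructor
  · intro hs
    have ho : Odd l := by
      by_contra h
      rw [Nat.not_odd_iff_even] at h
      rw [hs, h.neg_one_pow] at hsg
      exact absurd hsg (by decide)
    refine ⟨l - 1, β, h1, h2, hsub _, e2 ▸ hsub _, ?_, ?_, ?_⟩
    · rw [hβ, Perm.card_support_extend_domain, support_neg_odd ho]
    · rw [e2, Perm.card_support_extend_domain, support_rot_neg_odd ho]
    · right; omega
  · intro hs
    have he : Even l := by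
      by_contra h
      rw [Nat.not_even_iff_odd] at h
      rw [hs, h.neg_one_pow] at hsg
      exact absurd hsg (by decide)
    refine ⟨l - 2, β, h1, h2, hsub _, e2 ▸ hsub _, ?_, ?_, ?_⟩
    · rw [hβ, Perm.card_support_extend_domain, support_neg_even he]
    · rw [e2, Perm.card_support_extend_domain, support_rot_neg_even he]; omega
    · right; omega

theorem P_mul {σ τ : Perm α} (hd : Disjoint σ τ) (hσ1 : σ ≠ 1) (hσ : P σ) (hτ : P τ) : P (σ * τ) := by
  constructor
  · intro h
    rw [map_mul] at h
    rcases Int.units_eq_one_or (sign σ) with h1 | h1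
    · rw [h1, one_mul] at h
      obtain ⟨x, hx⟩ := hσ.1 h1
      obtain ⟨y, hy⟩ := hτ.1 h
      exact ⟨x + y, S_mul hd hx hy hσ1⟩
    · have h2 : sign τ = -1 := by
        rw [h1] at h
        rcases Int.units_eq_one_or (sign τ) with h3 | h3
        · rw [h3] at h; exact absurd h (by decide)
        · exact h3
      obtain ⟨x, hx⟩ := hσ.2 h1
      obtain ⟨y, hy⟩ := hτ.2 h2
      have := S_mul hd hx (S_symm hy) hσ1
      exact ⟨x + (y + 2), by convert this using 1; omega⟩
  · intro h
    rw [map_mul] at h
    rcases Int.units_eq_one_or (sign σ) with h1 | h1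
    · rw [h1, one_mul] at h
      obtain ⟨x, hx⟩ := hσ.1 h1
      obtain ⟨y, hy⟩ := hτ.2 h
      exact ⟨x + y, by convert S_mul hd hx hy hσ1 using 1; omega⟩
    · have h2 : sign τ = 1 := by
        rw [h1] at h
        rcases Int.units_eq_one_or (sign τ) with h3 | h3
        · exact h3
        · rw [h3] at h; exact absurd h (by decide)
      obtain ⟨x, hx⟩ := hσ.2 h1
      obtain ⟨y, hy⟩ := hτ.1 h2
      have := S_mul hd hx hy hσ1
      exact ⟨x + y, by convert this using 1; omega⟩

theorem P_all (σ : Perm α) : P σ := by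
  induction σ using Perm.cycle_induction_on with
  | base_one =>
    refine ⟨fun _ => ⟨0, 1, by simp, by simp, by simp, by simp, by simp, by simp, Or.inl rfl⟩, fun h => ?_⟩
    rw [map_one] at h
    exact absurd h (by decide)
  | base_cycles σ hσ => exact P_cycle hσ
  | induction_disjoint σ τ hd hσ hPσ hPτ => exact P_mul hd hσ.ne_one hPσ hPτ

/-- Every even permutation is inverted by an involution `β` such that `β` and `σ * β` move the same number of points,
fewer than `σ` unless `σ = 1`. -/
theorem exists_balanced {σ : Perm α} (h : sign σ = 1) : ∃ β : Perm α, β * β = 1 ∧ σ * β * (σ * β) = 1 ∧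
    β.support ⊆ σ.support ∧ (σ * β).support ⊆ σ.support ∧ β.support.card = (σ * β).support.card ∧
    (σ = 1 ∨ β.support.card < σ.support.card) := by
  obtain ⟨x, β, h1, h2, h3, h4, h5, h6, h7⟩ := (P_all σ).1 h
  refine ⟨β, h1, h2, h3, h4, by rw [h5, h6], ?_⟩
  rcases h7 with h7 | h7
  · exact Or.inl h7
  · right; omega

/-! ### cycle types of involutions -/

theorem cycleType_of_sq {β : Perm α} (h : β * β = 1) :
    β.cycleType = Multiset.replicate (β.support.card / 2) 2 ∧ Even β.support.card := by
  by_cases h1 : β = 1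
  · subst h1; simp
  · have ho : orderOf β = 2 := orderOf_eq_prime (by rw [pow_two, h]) h1
    obtain ⟨n, hn⟩ := Perm.cycleType_prime_order (σ := β) (by rw [ho]; exact Nat.prime_two)
    rw [ho] at hn
    have h2 := β.sum_cycleType
    rw [hn, Multiset.sum_replicate, smul_eq_mul] at h2
    constructor
    · rw [hn, ← h2, Nat.mul_div_cancel _ (by norm_num)]
    · rw [← h2]; exact even_two.mul_left _

theorem cycleType_eq_of_sq {β γ : Perm α} (h : β * β = 1) (h' : γ * γ = 1)
    (hc : β.support.card = γ.support.card) : β.cycleType = γ.cycleType := by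
  rw [(cycleType_of_sq h).1, (cycleType_of_sq h').1, hc]

theorem sign_of_sq {β : Perm α} (h : β * β = 1) : sign β = (-1) ^ (β.support.card / 2) := by
  rw [Perm.sign_of_cycleType, (cycleType_of_sq h).1, Multiset.sum_replicate, Multiset.card_replicate,
    smul_eq_mul, pow_add, mul_comm (β.support.card / 2) 2, pow_mul]
  simp

theorem sq_apply {β : Perm α} (h : β * β = 1) (x : α) : β (β x) = x := by
  rw [← Perm.mul_apply, h, Perm.one_apply]

/-- Removing a 2-cycle. -/
theorem split_swap {β : Perm α} (h : β * β = 1) {v : α} (hv : β v ≠ v) :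
    (swap v (β v) * β) * (swap v (β v) * β) = 1 ∧ Disjoint (swap v (β v)) (swap v (β v) * β) ∧
      β.support.card = 2 + (swap v (β v) * β).support.card := by
  have hap : ∀ x, (swap v (β v) * β) x = if x = v ∨ x = β v then x else β x := by
    intro x
    rw [Perm.mul_apply]
    split_ifs with hx
    · rcases hx with rfl | rfl
      · rw [swap_apply_right]
      · rw [sq_apply h, swap_apply_left]
    · push Not at hx
      apply swap_apply_of_ne_of_ne
      · intro h1
        apply hx.2
        rw [← h1, sq_apply h]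
      · intro h1
        exact hx.1 (β.injective h1)
  have hd : Disjoint (swap v (β v)) (swap v (β v) * β) := by
    intro x
    rw [hap]
    by_cases hx : x = v ∨ x = β v
    · right; rw [if_pos hx]
    · left
      push Not at hx
      exact swap_apply_of_ne_of_ne hx.1 hx.2
  have hcomm := hd.commute.eq
  have hmul : swap v (β v) * (swap v (β v) * β) = β := by
    rw [← mul_assoc, swap_mul_self, one_mul]
  refine ⟨?_, hd, ?_⟩
  · rw [mul_assoc, ← mul_assoc β, ]
    rw [hmul] at hcomm
    have : β * swap v (β v) = swap v (β v) * β := by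
      calc β * swap v (β v) = (swap v (β v) * β * swap v (β v)) * swap v (β v) := by rw [← hcomm]
        _ = swap v (β v) * β := by rw [mul_assoc, swap_mul_self, mul_one]
    rw [this, mul_assoc, h, mul_one, swap_mul_self]
  · have h1 := hd.card_support_mul
    rw [hmul, Perm.card_support_swap (Ne.symm hv)] at h1
    exact h1

/-- The permutation `b` has two cycles of length two. -/
def Two (b : Perm α) : Prop := ∃ p q : α, b (b p) = p ∧ b p ≠ p ∧ b (b q) = q ∧ b q ≠ q ∧ q ≠ p ∧ q ≠ b p

theorem two_of_card {β ρ : Perm α} (h : β * β = 1) (hd : Disjoint β ρ) (hc : 4 ≤ β.support.card) :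
    Two (β * ρ) := by
  have hb : ∀ x ∈ β.support, (β * ρ) x = β x := by
    intro x hx
    rw [Perm.mul_apply, (hd x).resolve_left (Perm.mem_support.1 hx)]
  obtain ⟨p, hp⟩ : β.support.Nonempty := Finset.card_pos.1 (by omega)
  obtain ⟨q, hq, hq2⟩ : ∃ q ∈ β.support, q ∉ ({p, β p} : Finset α) := by
    by_contra hcon
    push Not at hcon
    have h1 : β.support ⊆ {p, β p} := hcon
    have := (Finset.card_le_card h1).trans Finset.card_le_two
    omega
  rw [Finset.mem_insert, Finset.mem_singleton, not_or] at hq2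
  have hp' : β p ∈ β.support := Perm.apply_mem_support.2 hp
  have hq' : β q ∈ β.support := Perm.apply_mem_support.2 hq
  refine ⟨p, q, ?_, ?_, ?_, ?_, hq2.1, ?_⟩
  · rw [hb p hp, hb _ hp', sq_apply h]
  · rw [hb p hp]; exact Perm.mem_support.1 hp
  · rw [hb q hq, hb _ hq', sq_apply h]
  · rw [hb q hq]; exact Perm.mem_support.1 hq
  · rw [hb p hp]; exact hq2.2

/-- `β * swap u v`, `u` fixed and `v` moved by the involution `β`. -/
theorem merge {β : Perm α} (h : β * β = 1) {u v : α} (hu : β u = u) (hv : β v ≠ v) :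
    ∃ β' ρ : Perm α, β * swap u v = β' * ρ ∧ Disjoint β' ρ ∧ β' * β' = 1 ∧
      β'.support.card + 2 = β.support.card ∧ ρ.cycleType = {3} := by
  have huv : u ≠ v := by rintro rfl; exact hv hu
  have huw : u ≠ β v := by
    rintro rfl
    rw [sq_apply h] at hu
    exact hv hu.symm
  obtain ⟨h1, hd, hc⟩ := split_swap h hv
  set β' := swap v (β v) * β with hβ'
  have hmul : β = swap v (β v) * β' := by
    rw [hβ', ← mul_assoc, swap_mul_self, one_mul]
  have hcomm : swap v (β v) * β' = β' * swap v (β v) := hd.commute.eq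
  have hfix : ∀ x, x = u ∨ x = v ∨ x = β v → β' x = x := by
    rintro x (rfl | rfl | rfl)
    · rw [hβ', Perm.mul_apply, hu, swap_apply_of_ne_of_ne huv huw]
    · rw [hβ', Perm.mul_apply, swap_apply_right]
    · rw [hβ', Perm.mul_apply, sq_apply h, swap_apply_left]
  refine ⟨β', swap v (β v) * swap u v, ?_, ?_, h1, by omega, ?_⟩
  · conv_lhs => rw [hmul]
    rw [hcomm, mul_assoc]
  · intro x
    by_cases hx : x = u ∨ x = v ∨ x = β v
    · exact Or.inl (hfix x hx)
    · right
      push Not at hx
      rw [Perm.mul_apply, swap_apply_of_ne_of_ne hx.1 hx.2.1, swap_apply_of_ne_of_ne hx.2.1 hx.2.2]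
  · rw [swap_comm u v]
    exact isThreeCycle_swap_mul_swap_same (Ne.symm hv) huv.symm (Ne.symm huw)

/-! ### the main statement -/

theorem dbl_sq {a b c d : α} (hac : a ≠ c) (had : a ≠ d) (hbc : b ≠ c) (hbd : b ≠ d) :
    swap a b * swap c d * (swap a b * swap c d) = 1 := by
  have hd : Disjoint (swap a b) (swap c d) := by
    intro x
    by_cases hx : x = a ∨ x = b
    · right
      rcases hx with rfl | rfl
      · exact swap_apply_of_ne_of_ne hac had
      · exact swap_apply_of_ne_of_ne hbc hbd
    · left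
      push Not at hx
      exact swap_apply_of_ne_of_ne hx.1 hx.2
  have hc : swap c d * swap a b = swap a b * swap c d := hd.commute.eq.symm
  calc swap a b * swap c d * (swap a b * swap c d) = swap a b * (swap c d * swap a b) * swap c d := by group
    _ = (swap a b * swap a b) * (swap c d * swap c d) := by rw [hc]; group
    _ = 1 := by rw [swap_mul_self, swap_mul_self, one_mul]

theorem dbl_facts {a b c d : α} (hab : a ≠ b) (hac : a ≠ c) (had : a ≠ d) (hbc : b ≠ c) (hbd : b ≠ d) (hcd : c ≠ d) :
    (swap a b * swap c d) * (swap a b * swap c d) = 1 ∧ (swap a b * swap c d).support.card = 4 ∧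
      sign (swap a b * swap c d) = 1 := by
  have hd : Disjoint (swap a b) (swap c d) := by
    intro x
    by_cases hx : x = a ∨ x = b
    · right
      rcases hx with rfl | rfl
      · exact swap_apply_of_ne_of_ne hac had
      · exact swap_apply_of_ne_of_ne hbc hbd
    · left
      push Not at hx
      exact swap_apply_of_ne_of_ne hx.1 hx.2
  refine ⟨dbl_sq hac had hbc hbd, ?_, ?_⟩
  · rw [hd.card_support_mul, Perm.card_support_swap hab, Perm.card_support_swap hcd]
  · rw [map_mul, sign_swap hab, sign_swap hcd]; decide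

theorem two_of_sq {β : Perm α} (h : β * β = 1) (hc : 4 ≤ β.support.card) : Two β := by
  have := two_of_card (ρ := 1) h (disjoint_one_right β) hc
  rwa [mul_one] at this

theorem swap_four {a b c d : α} (hab : a ≠ b) (hac : a ≠ c) (had : a ≠ d) (hbc : b ≠ c) (hbd : b ≠ d) (hcd : c ≠ d) :
    swap a b * swap c d * (swap a c * swap b d) = swap a d * swap b c := by
  ext x
  simp only [Perm.mul_apply, swap_apply_def]
  split_ifs <;> simp_all

theorem exists_b (hn : 5 ≤ Fintype.card α) {γ : Perm α} (hγ : sign γ = 1) :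
    ∃ b : Perm α, sign b = 1 ∧ (γ * b).cycleType = b.cycleType ∧ Two b := by
  by_cases h1 : γ = 1
  · -- four distinct points
    subst h1
    obtain ⟨s, hs⟩ := Finset.exists_subset_card_eq (s := (Finset.univ : Finset α)) (n := 4)
      (by rw [Finset.card_univ]; omega)
    obtain ⟨a, b, c, d, hab, hac, had, hbc, hbd, hcd, -⟩ : ∃ a b c d : α, a ≠ b ∧ a ≠ c ∧ a ≠ d ∧ b ≠ c ∧ b ≠ d ∧
        c ≠ d ∧ s = {a, b, c, d} := Finset.card_eq_four.1 hs.2
    obtain ⟨e1, e2, e3⟩ := dbl_facts hab hac had hbc hbd hcd
    exact ⟨swap a b * swap c d, e3, by rw [one_mul], two_of_sq e1 e2.ge⟩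
  obtain ⟨β, hβ, hγβ, hs1, hs2, hcard, hlt⟩ := exists_balanced hγ
  replace hlt := hlt.resolve_left h1
  have hct : (γ * β).cycleType = β.cycleType := cycleType_eq_of_sq hγβ hβ hcard.symm
  obtain ⟨T, hT⟩ := (cycleType_of_sq hβ).2
  have hsg : sign β = (-1) ^ T := by
    rw [sign_of_sq hβ, hT, ← two_mul, Nat.mul_div_cancel_left _ (by norm_num)]
  have hT0 : T ≠ 0 := by
    rintro rfl
    rw [Nat.add_zero] at hT
    have h2 : β = 1 := Perm.support_eq_empty_iff.1 (Finset.card_eq_zero.1 hT)
    rw [hT] at hcard
    have h3 : γ * β = 1 := Perm.support_eq_empty_iff.1 (Finset.card_eq_zero.1 hcard.symm)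
    rw [h2, mul_one] at h3
    exact h1 h3
  rcases Nat.even_or_odd T with he | ho
  · -- `T` even
    have hT2 : 2 ≤ T := by
      rcases he with ⟨t, rfl⟩
      omega
    exact ⟨β, by rw [hsg, he.neg_one_pow], hct, two_of_sq hβ (by omega)⟩
  by_cases hT1 : T = 1
  · -- `T = 1`
    subst hT1
    obtain ⟨i, j, hij, hβe⟩ := Perm.card_support_eq_two.1 hT
    obtain ⟨k, l, hkl, hγe⟩ := Perm.card_support_eq_two.1 (hcard.symm.trans hT)
    by_cases hdis : i ≠ k ∧ i ≠ l ∧ j ≠ k ∧ j ≠ l
    · obtain ⟨hik, hil, hjk, hjl⟩ := hdis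
      have hγ2 : γ = swap i j * swap k l := by
        have h2 : γ = (γ * β) * β := by rw [mul_assoc, hβ, mul_one]
        rw [h2, hγe, hβe]
        have hd : Disjoint (swap i j) (swap k l) := by
          intro x
          by_cases hx : x = i ∨ x = j
          · right
            rcases hx with rfl | rfl
            · exact swap_apply_of_ne_of_ne hik hil
            · exact swap_apply_of_ne_of_ne hjk hjl
          · left
            push Not at hx
            exact swap_apply_of_ne_of_ne hx.1 hx.2
        exact hd.commute.eq.symm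
      obtain ⟨e1, e2, e3⟩ := dbl_facts hik hij hil hjk.symm hkl hjl
      obtain ⟨f1, f2, f3⟩ := dbl_facts hil hij hik hjl.symm hkl.symm hjk
      refine ⟨swap i k * swap j l, e3, ?_, two_of_sq e1 e2.ge⟩
      rw [hγ2, swap_four hij hik hil hjk hjl hkl]
      exact cycleType_eq_of_sq f1 e1 (f2.trans e2.symm)
    · -- two further points
      have h3 : ((β.support ∪ (γ * β).support)).card ≤ 3 := by
        have h4 := Finset.card_union_add_card_inter β.support (γ * β).support
        have h5 : 0 < (β.support ∩ (γ * β).support).card := by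
          rw [Finset.card_pos]
          rw [hγe, hβe, Perm.support_swap hij, Perm.support_swap hkl]
          by_contra hcon
          rw [Finset.not_nonempty_iff_eq_empty] at hcon
          apply hdis
          refine ⟨?_, ?_, ?_, ?_⟩
          · rintro rfl
            have : i ∈ ({i, j} : Finset α) ∩ {i, l} := by simp
            rw [hcon] at this; simp at this
          · rintro rfl
            have : i ∈ ({i, j} : Finset α) ∩ {k, i} := by simp
            rw [hcon] at this; simp at this
          · rintro rfl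
            have : j ∈ ({i, j} : Finset α) ∩ {j, l} := by simp
            rw [hcon] at this; simp at this
          · rintro rfl
            have : j ∈ ({i, j} : Finset α) ∩ {k, j} := by simp
            rw [hcon] at this; simp at this
        omega
      obtain ⟨r, s, hrs, hr, hs⟩ : ∃ r s : α, r ≠ s ∧ r ∉ β.support ∪ (γ * β).support ∧
          s ∉ β.support ∪ (γ * β).support := by
        have h4 : 1 < (β.support ∪ (γ * β).support)ᶜ.card := by
          rw [Finset.card_compl]; omega
        obtain ⟨r, hr, s, hs, hrs⟩ := Finset.one_lt_card.1 h4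
        exact ⟨r, s, hrs, Finset.mem_compl.1 hr, Finset.mem_compl.1 hs⟩
      rw [Finset.notMem_union, Perm.notMem_support, Perm.notMem_support] at hr hs
      have key : ∀ δ : Perm α, δ * δ = 1 → δ.support.card = 2 → δ r = r → δ s = s →
          (δ * swap r s) * (δ * swap r s) = 1 ∧ (δ * swap r s).support.card = 4 ∧ sign (δ * swap r s) = 1 := by
        intro δ h5 h6 h7 h8
        obtain ⟨u, v, huv, rfl⟩ := Perm.card_support_eq_two.1 h6
        have a1 : u ≠ r := by
          rintro rfl
          rw [swap_apply_left] at h7; exact huv h7.symm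
        have a2 : v ≠ r := by
          rintro rfl
          rw [swap_apply_right] at h7; exact huv h7
        have a3 : u ≠ s := by
          rintro rfl
          rw [swap_apply_left] at h8; exact huv h8.symm
        have a4 : v ≠ s := by
          rintro rfl
          rw [swap_apply_right] at h8; exact huv h8
        exact dbl_facts huv a1 a3 a2 a4 hrs
      obtain ⟨e1, e2, e3⟩ := key β hβ hT hr.1 hs.1
      obtain ⟨f1, f2, f3⟩ := key (γ * β) hγβ (hcard.symm.trans hT) hr.2 hs.2
      refine ⟨β * swap r s, e3, ?_, two_of_sq e1 e2.ge⟩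
      rw [← mul_assoc]
      exact cycleType_eq_of_sq f1 e1 (f2.trans e2.symm)
  · -- `T ≥ 3` odd
    have hT3 : 3 ≤ T := by
      rcases ho with ⟨t, rfl⟩
      omega
    obtain ⟨u, hu1, hu2⟩ : ∃ u ∈ γ.support, u ∉ β.support := by
      by_contra hcon
      push Not at hcon
      have := Finset.card_le_card (s := γ.support) (t := β.support) hcon
      omega
    obtain ⟨v, hv1, hv2⟩ : ∃ v ∈ γ.support, v ∉ (γ * β).support := by
      by_contra hcon
      push Not at hcon
      have := Finset.card_le_card (s := γ.support) (t := (γ * β).support) hcon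
      omega
    rw [Perm.notMem_support] at hu2 hv2
    rw [Perm.mem_support] at hu1 hv1
    have hu3 : (γ * β) u ≠ u := by rw [Perm.mul_apply, hu2]; exact hu1
    have hv3 : β v ≠ v := by
      intro h
      rw [Perm.mul_apply, h] at hv2
      exact hv1 hv2
    obtain ⟨β', ρ, e1, e2, e3, e4, e5⟩ := merge hβ hu2 hv3
    obtain ⟨β'', ρ', f1, f2, f3, f4, f5⟩ := merge hγβ hv2 hu3
    have huv : u ≠ v := by rintro rfl; exact hv3 hu2
    refine ⟨β * swap u v, ?_, ?_, ?_⟩
    · rw [map_mul, hsg, sign_swap huv, ho.neg_one_pow]; decide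
    · rw [← mul_assoc, swap_comm u v, f1, ← swap_comm u v, e1, e2.cycleType_mul, f2.cycleType_mul, e5, f5,
        cycleType_eq_of_sq e3 f3 (by omega)]
    · rw [e1]
      exact two_of_card e3 e2 (by omega)

theorem exists_comm (hn : 5 ≤ Fintype.card α) {γ : Perm α} (hγ : sign γ = 1) :
    ∃ a b : Perm α, sign a = 1 ∧ sign b = 1 ∧ a * b * a⁻¹ * b⁻¹ = γ ∧ Two b := by
  obtain ⟨b, hb1, hb2, hb3⟩ := exists_b hn hγ
  obtain ⟨c, hc⟩ := isConj_iff.1 (Perm.isConj_iff_cycleType_eq.2 hb2.symm)
  rcases Int.units_eq_one_or (sign c) with h1 | h1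
  · exact ⟨c, b, h1, hb1, by rw [hc]; group, hb3⟩
  · obtain ⟨p, q, hp1, hp2, -⟩ := id hb3
    refine ⟨c * swap p (b p), b, ?_, hb1, ?_, hb3⟩
    · rw [map_mul, h1, sign_swap (Ne.symm hp2)]; decide
    · have h2 : swap p (b p) * b * (swap p (b p))⁻¹ = b := by
        have h3 : b * swap p (b p) = swap p (b p) * b := by
          rw [Equiv.mul_swap_eq_swap_mul, hp1, swap_comm]
        rw [← h3, mul_inv_cancel_right]
      calc c * swap p (b p) * b * (c * swap p (b p))⁻¹ * b⁻¹ =
          c * (swap p (b p) * b * (swap p (b p))⁻¹) * c⁻¹ * b⁻¹ := by group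
        _ = γ := by rw [h2, hc]; group

end Cfsg.Agent.H155.AltComm
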