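import Mathlib

/-!
# Eigenvalues of matrices over finite fields (helper155)

* `pow_card_pow`, `norm_minpoly`: the degree and the norm of an element of a finite extension;
* `exists_frob`: elements of a finite field with the same minimal polynomial over a subfield are conjugate
  under a power of the Frobenius map;
* `exists_root`: if `x ^ (k * r) = 1`, `x ^ k ≠ 1`, `r` a prime which is not the characteristic, then some
  eigenvalue `a` of `x` satisfies `a ^ k ≠ 1`, `a ^ (k * r) = 1`.
-/

set_option autoImplicit false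
set_option linter.unusedSectionVars false

namespace Cfsg.Agent.H155.Root

open Polynomial Module

section field

variable {F L : Type*} [Field F] [Finite F] [Field L] [Finite L] [Algebra F L]

theorem pow_card_pow (a : L) : a ^ (Nat.card F ^ (minpoly F a).natDegree) = a := by
  have hint : IsIntegral F a := IsIntegral.of_finite F a
  have h1 : finrank F (IntermediateField.adjoin F {a}) = (minpoly F a).natDegree :=
    IntermediateField.adjoin.finrank hint
  have h2 : Nat.card (IntermediateField.adjoin F {a}) = Nat.card F ^ (minpoly F a).natDegree := by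
    rw [← h1]
    exact Module.natCard_eq_pow_finrank
  have : Fintype (IntermediateField.adjoin F {a}) := Fintype.ofFinite _
  have h3 := FiniteField.pow_card (⟨a, IntermediateField.mem_adjoin_simple_self F a⟩ :
    IntermediateField.adjoin F {a})
  rw [← Nat.card_eq_fintype_card, h2] at h3
  exact congrArg Subtype.val h3

theorem norm_minpoly (a : L) :
    algebraMap F L ((-1) ^ (minpoly F a).natDegree * (minpoly F a).coeff 0) =
      a ^ ∑ i ∈ Finset.range (minpoly F a).natDegree, Nat.card F ^ i := by
  have hint : IsIntegral F a := IsIntegral.of_finite F a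
  let E := IntermediateField.adjoin F {a}
  let g : E := ⟨a, IntermediateField.mem_adjoin_simple_self F a⟩
  have h1 : finrank F E = (minpoly F a).natDegree :=
    IntermediateField.adjoin.finrank hint
  have h2 := FiniteField.algebraMap_norm_eq_pow_sum F E g
  rw [h1] at h2
  have h3 : Algebra.norm F g = (-1) ^ (minpoly F a).natDegree * (minpoly F a).coeff 0 := by
    have h4 := Algebra.PowerBasis.norm_gen_eq_coeff_zero_minpoly (IntermediateField.adjoin.powerBasis hint)
    rw [IntermediateField.adjoin.powerBasis_dim, IntermediateField.adjoin.powerBasis_gen] at h4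
    rw [IntermediateField.minpoly_gen] at h4
    exact h4
  rw [← h3]
  have h5 := congrArg (algebraMap E L) h2
  rw [map_pow] at h5
  exact h5

theorem exists_frob {a b : L} (h : minpoly F a = minpoly F b) : ∃ i : ℕ, b = a ^ (Nat.card F ^ i) := by
  have h1 : IsConjRoot F a b := h
  obtain ⟨σ, hσ⟩ := (isConjRoot_iff_exists_algEquiv).1 h1
  have : Fintype F := Fintype.ofFinite F
  obtain ⟨i, hi⟩ := (FiniteField.bijective_frobeniusAlgEquivOfAlgebraic_pow F L).2 σ⁻¹
  refine ⟨i, ?_⟩
  have h2 : σ⁻¹ a = b := by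
    rw [← hσ]
    exact σ.symm_apply_apply b
  rw [← h2, ← hi]
  show ((FiniteField.frobeniusAlgEquivOfAlgebraic F L) ^ (i : ℕ)) a = _
  rw [AlgEquiv.coe_pow, FiniteField.coe_frobeniusAlgEquivOfAlgebraic_iterate, Nat.card_eq_fintype_card]

end field

section root

variable {F L : Type*} [Field F] [Finite F] [Field L] [Algebra F L]
variable {ι : Type*} [Fintype ι] [DecidableEq ι]

theorem dvd_pow_of_roots {P Q : L[X]} (hP : P.Splits) (hP0 : P.Monic) (h : ∀ a : L, P.IsRoot a → (X - C a) ∣ Q) :
    P ∣ Q ^ P.natDegree := by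
  have h1 : P = (P.roots.map fun a => X - C a).prod := by
    conv_lhs => rw [hP.eq_prod_roots, hP0.leadingCoeff, C_1, one_mul]
  have h2 : ∀ s : Multiset L, (∀ a ∈ s, (X - C a) ∣ Q) → (s.map fun a => X - C a).prod ∣ Q ^ s.card := by
    intro s
    induction s using Multiset.induction_on with
    | empty => intro _; simp
    | cons a s ih =>
      intro hs
      rw [Multiset.map_cons, Multiset.prod_cons, Multiset.card_cons, pow_succ']
      exact mul_dvd_mul (hs a (Multiset.mem_cons_self a s))
        (ih fun b hb => hs b (Multiset.mem_cons_of_mem hb))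
  have h3 := h2 P.roots fun a ha => h a (isRoot_of_mem_roots ha)
  rw [← h1, ← hP.natDegree_eq_card_roots] at h3
  exact h3

theorem exists_root {p : ℕ} [Fact p.Prime] [CharP F p] {x : Matrix ι ι F}
    (hs : (x.charpoly.map (algebraMap F L)).Splits) {k r : ℕ} (hr : r.Prime) (hrp : r ≠ p)
    (h1 : x ^ (k * r) = 1) (h2 : x ^ k ≠ 1) :
    ∃ a : L, (x.charpoly.map (algebraMap F L)).IsRoot a ∧ a ^ k ≠ 1 ∧ a ^ (k * r) = 1 := by
  set P := x.charpoly.map (algebraMap F L) with hPdef
  have hmon : P.Monic := (Matrix.charpoly_monic x).map _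
  have hpp : p.Prime := Fact.out
  -- roots of `P` satisfy `a ^ (k * r) = 1`
  have hpow : ∀ a : L, P.IsRoot a → ∀ m : ℕ, x ^ m = 1 → a ^ m = 1 := by
    intro a ha m hm
    -- eigenvector
    have h3 : ((Matrix.scalar ι a) - x.map (algebraMap F L)).det = 0 := by
      have h4 : P = (x.map (algebraMap F L)).charpoly := by
        rw [hPdef, Matrix.charpoly_map]
      rw [h4] at ha
      rw [← Matrix.eval_charpoly]
      exact ha
    obtain ⟨v, hv0, hv⟩ := Matrix.exists_mulVec_eq_zero_iff.2 h3
    have h5 : (x.map (algebraMap F L)).mulVec v = a • v := by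
      rw [Matrix.sub_mulVec, sub_eq_zero] at hv
      rw [← hv]
      ext i
      simp [Matrix.scalar_apply, Matrix.mulVec_diagonal]
    have h6 : ∀ m : ℕ, ((x ^ m).map (algebraMap F L)).mulVec v = a ^ m • v := by
      intro m
      induction m with
      | zero =>
        rw [pow_zero, pow_zero, one_smul]
        have : (1 : Matrix ι ι F).map (algebraMap F L) = 1 :=
          Matrix.map_one _ (map_zero _) (map_one _)
        rw [this, Matrix.one_mulVec]
      | succ m ih =>
        rw [pow_succ, Matrix.map_mul, ← Matrix.mulVec_mulVec, h5, Matrix.mulVec_smul, ih, smul_smul,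
          pow_succ']
    have h7 := h6 m
    rw [hm] at h7
    have h8 : (1 : Matrix ι ι F).map (algebraMap F L) = 1 :=
      Matrix.map_one _ (map_zero _) (map_one _)
    rw [h8, Matrix.one_mulVec] at h7
    obtain ⟨i, hi⟩ := Function.ne_iff.1 hv0
    have h9 := congrFun h7 i
    rw [Pi.smul_apply, smul_eq_mul] at h9
    have hi' : v i ≠ 0 := hi
    exact (mul_right_cancel₀ hi' (by rw [one_mul]; exact h9)).symm
  by_contra hcon
  push Not at hcon
  have hall : ∀ a : L, P.IsRoot a → a ^ k = 1 := by
    intro a ha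
    by_contra hk
    exact hcon a ha hk (hpow a ha _ h1)
  have hdiv : P ∣ (X ^ k - 1 : L[X]) ^ P.natDegree := by
    refine dvd_pow_of_roots hs hmon fun a ha => ?_
    rw [dvd_iff_isRoot, IsRoot.def, eval_sub, eval_pow, eval_X, eval_one, hall a ha, sub_self]
  have : CharP L p := charP_of_injective_algebraMap (algebraMap F L).injective p
  have hdeg : P.natDegree ≤ p ^ P.natDegree := (Nat.lt_pow_self hpp.one_lt).le
  have hdiv2 : P ∣ (X ^ (k * p ^ P.natDegree) - 1 : L[X]) := by
    refine hdiv.trans ((pow_dvd_pow _ hdeg).trans ?_)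
    rw [sub_pow_char_pow, one_pow, pow_mul]
  have hdiv3 : x.charpoly ∣ (X ^ (k * p ^ P.natDegree) - 1 : F[X]) := by
    have : ((X ^ (k * p ^ P.natDegree) - 1 : F[X]).map (algebraMap F L)) =
      (X ^ (k * p ^ P.natDegree) - 1 : L[X]) := by simp
    rw [← this, hPdef, Polynomial.map_dvd_map' ] at hdiv2
    exact hdiv2
  have hx : x ^ (k * p ^ P.natDegree) = 1 := by
    obtain ⟨R, hR⟩ := hdiv3
    have h3 := congrArg (aeval x) hR
    rw [map_mul, Matrix.aeval_self_charpoly, zero_mul, map_sub, map_pow, aeval_X, map_one,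
      sub_eq_zero] at h3
    exact h3
  have hcop : Nat.Coprime r (p ^ P.natDegree) :=
    Nat.Coprime.pow_right _ ((Nat.coprime_primes hr hpp).2 hrp)
  apply h2
  have h3 : (x ^ k) ^ r = 1 := by rw [← pow_mul]; exact h1
  have h4 : (x ^ k) ^ (p ^ P.natDegree) = 1 := by rw [← pow_mul]; exact hx
  have h5 := orderOf_dvd_of_pow_eq_one h3
  have h6 := orderOf_dvd_of_pow_eq_one h4
  have h7 := Nat.dvd_gcd h5 h6
  rw [hcop.gcd_eq_one] at h7
  exact orderOf_eq_one_iff.1 (Nat.dvd_one.1 h7)

/-- If the prime `r`, not the characteristic, divides the order of the matrix `x`, then some eigenvalue of `x`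
has a power of order `r`. -/
theorem exists_eig {p : ℕ} [Fact p.Prime] [CharP F p] {x : Matrix ι ι F}
    (hs : (x.charpoly.map (algebraMap F L)).Splits) {r : ℕ} (hr : r.Prime) (hrp : r ≠ p)
    (h : r ∣ orderOf x) (ho : 0 < orderOf x) :
    ∃ (a : L) (k : ℕ), (x.charpoly.map (algebraMap F L)).IsRoot a ∧ orderOf (a ^ k) = r ∧ a ≠ 0 := by
  obtain ⟨k, hk⟩ := h
  have hk0 : 0 < k := Nat.pos_of_ne_zero (by rintro rfl; rw [mul_zero] at hk; omega)
  have h1 : x ^ (k * r) = 1 := by rw [mul_comm k r, ← hk, pow_orderOf_eq_one]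
  have h2 : x ^ k ≠ 1 := by
    intro h
    have h3 := Nat.le_of_dvd hk0 (orderOf_dvd_of_pow_eq_one h)
    rw [hk] at h3
    have := hr.two_le
    nlinarith
  obtain ⟨a, ha, hak, hakr⟩ := exists_root hs hr hrp h1 h2
  have : Fact r.Prime := ⟨hr⟩
  refine ⟨a, k, ha, orderOf_eq_prime (by rw [← pow_mul]; exact hakr) hak, ?_⟩
  rintro rfl
  rw [zero_pow (mul_pos hk0 hr.pos).ne'] at hakr
  exact zero_ne_one hakr

/-- If a power of `a` has order `r` then `r` divides `q ^ D - 1`, `D` the degree of `a`. -/
theorem dvd_of_orderOf [Finite L] {a : L} {k r : ℕ} (h : orderOf (a ^ k) = r) (ha : a ≠ 0) :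
    r ∣ Nat.card F ^ (minpoly F a).natDegree - 1 := by
  have hq : 0 < Nat.card F := Nat.card_pos
  have h1 := pow_card_pow (F := F) a
  have h2 : a ^ (Nat.card F ^ (minpoly F a).natDegree - 1) = 1 := by
    have h4 : a ^ (Nat.card F ^ (minpoly F a).natDegree - 1) * a = 1 * a := by
      rw [← pow_succ, Nat.sub_add_cancel (Nat.one_le_pow _ _ hq), h1, one_mul]
    exact mul_right_cancel₀ ha h4
  rw [← h]
  apply orderOf_dvd_of_pow_eq_one
  rw [← pow_mul, mul_comm k, pow_mul, h2, one_pow]

/-- Cayley-Hamilton for multiples of the characteristic polynomial `X ^ K - c`. -/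
theorem pow_eq_scalar {x : Matrix ι ι F} {K : ℕ} {c : F} (h : x.charpoly ∣ (X ^ K - C c : F[X])) :
    x ^ K = Matrix.scalar ι c := by
  obtain ⟨R, hR⟩ := h
  have h2 := congrArg (aeval x) hR
  rw [map_mul, Matrix.aeval_self_charpoly, zero_mul, map_sub, map_pow, aeval_X, aeval_C,
    sub_eq_zero] at h2
  exact h2

end root

end Cfsg.Agent.H155.Root
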