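import Mathlib
import Cfsg.Agent.H155.Root

/-!
# Half tori: arithmetic and cyclic groups (helper155)

Common parts of S2495 and S2496.
-/

set_option autoImplicit false
set_option linter.unusedSectionVars false

namespace Cfsg.Agent.H155.Cyc

open Polynomial

/-- In a cyclic group of order `A * M * N` with `gcd A (M * N) ∣ M` some `a` satisfies `a ^ (M * N) = 1` and
`orderOf (a ^ A) = N`. -/
theorem exists_elt {C : Type*} [CommGroup C] [IsCyclic C] [Finite C] {A M N : ℕ}
    (hC : Nat.card C = A * M * N) (h : Nat.gcd A (M * N) ∣ M) :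
    ∃ a : C, a ^ (M * N) = 1 ∧ orderOf (a ^ A) = N := by
  obtain ⟨w, hw⟩ := IsCyclic.exists_generator (α := C)
  have hord : orderOf w = A * M * N := by
    rw [orderOf_eq_card_of_forall_mem_zpowers hw, hC]
  have hpos : 0 < A * M * N := hC ▸ Nat.card_pos
  have hA : 0 < A := Nat.pos_of_ne_zero (by rintro rfl; simp at hpos)
  have hM : 0 < M := Nat.pos_of_ne_zero (by rintro rfl; simp at hpos)
  have hN : 0 < N := Nat.pos_of_ne_zero (by rintro rfl; simp at hpos)
  obtain ⟨e, he⟩ := h
  have hbez := Nat.gcd_eq_gcd_ab A (M * N)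
  set u := Nat.gcdA A (M * N)
  set v := Nat.gcdB A (M * N)
  -- `A * (u * e) = M - (M * N) * (v * e)`
  have hkey : (A : ℤ) * (u * e) = M - (M * N : ℕ) * (v * e) := by
    have : (M : ℤ) = ((Nat.gcd A (M * N) : ℕ) : ℤ) * e := by exact_mod_cast he
    rw [this, hbez]; push_cast; ring
  refine ⟨w ^ ((A : ℤ) * (u * e)), ?_, ?_⟩
  · rw [← zpow_natCast, ← zpow_mul]
    have : (A : ℤ) * (u * e) * ((M * N : ℕ) : ℤ) = ((A * M * N : ℕ) : ℤ) * (u * e) := by
      push_cast; ring
    rw [this, zpow_mul, zpow_natCast, ← hord, pow_orderOf_eq_one, one_zpow]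
  · have h1 : (w ^ ((A : ℤ) * (u * e))) ^ A = w ^ (A * M) := by
      rw [← zpow_natCast, ← zpow_mul, hkey]
      have : ((M : ℤ) - (M * N : ℕ) * (v * e)) * (A : ℤ) = ((A * M : ℕ) : ℤ) - ((A * M * N : ℕ) : ℤ) * (v * e) := by
        push_cast; ring
      rw [this, zpow_sub, zpow_mul, zpow_natCast, zpow_natCast, ← hord, pow_orderOf_eq_one, one_zpow,
        inv_one, mul_one]
    rw [h1, orderOf_pow' w (by positivity), hord, Nat.gcd_eq_right (Dvd.intro _ rfl),
      Nat.mul_div_cancel_left _ (by positivity)]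

/-- The 2-adic criterion. -/
theorem gcd_dvd_iff {m t : ℕ} (hm : 0 < m) (ht : 0 < t) :
    Nat.gcd (2 * m) t ∣ m ↔ padicValNat 2 t < padicValNat 2 (2 * m) := by
  have h2 : padicValNat 2 (2 * m) = padicValNat 2 m + 1 := by
    rw [padicValNat.mul (by norm_num) hm.ne', padicValNat_self, add_comm]
  constructor
  · intro h
    by_contra hcon
    push Not at hcon
    have h3 : 2 ^ padicValNat 2 (2 * m) ∣ Nat.gcd (2 * m) t := by
      apply Nat.dvd_gcd pow_padicValNat_dvd
      exact (pow_dvd_pow 2 hcon).trans pow_padicValNat_dvd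
    have h4 := h3.trans h
    rw [padicValNat_dvd_iff_le hm.ne', h2] at h4
    omega
  · intro h
    obtain ⟨e, he⟩ := Nat.gcd_dvd_left (2 * m) t
    rcases Nat.even_or_odd e with ⟨f, hf⟩ | ho
    · refine ⟨f, ?_⟩
      have : 2 * m = 2 * (Nat.gcd (2 * m) t * f) := by
        conv_lhs => rw [he, hf]
        ring
      omega
    · exfalso
      have hg0 : Nat.gcd (2 * m) t ≠ 0 := Nat.gcd_ne_zero_right ht.ne'
      have he0 : e ≠ 0 := by rintro rfl; simp at ho
      have h3 : padicValNat 2 (2 * m) = padicValNat 2 (Nat.gcd (2 * m) t) := by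
        conv_lhs => rw [he]
        rw [padicValNat.mul hg0 he0, padicValNat.eq_zero_of_not_dvd (n := e), add_zero]
        intro h
        exact (Nat.not_even_iff_odd.2 ho) (even_iff_two_dvd.2 h)
      have h4 : padicValNat 2 (Nat.gcd (2 * m) t) ≤ padicValNat 2 t := by
        rw [← padicValNat_dvd_iff_le ht.ne']
        exact pow_padicValNat_dvd.trans (Nat.gcd_dvd_right _ _)
      omega

/-- Elements of a finite extension fixed by the Frobenius map lie in the base field. -/
theorem mem_range_of_pow {F L : Type*} [Field F] [Finite F] [Field L] [Algebra F L] {z : L}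
    (hz : z ^ (Nat.card F - 1) = 1) : ∃ c : F, algebraMap F L c = z := by
  classical
  have : Fintype F := Fintype.ofFinite F
  have hq : 1 < Nat.card F := Finite.one_lt_card
  by_contra hcon
  push Not at hcon
  -- `X ^ q - X` would have more than `q` roots
  set P : L[X] := X ^ Nat.card F - X
  have hP0 : P ≠ 0 := FiniteField.X_pow_card_sub_X_ne_zero L hq
  have hdeg : P.natDegree = Nat.card F := FiniteField.X_pow_card_sub_X_natDegree_eq L hq
  have hzr : z ∈ P.roots := by
    rw [mem_roots hP0, IsRoot.def, eval_sub, eval_pow, eval_X]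
    have : z ^ Nat.card F = z ^ (Nat.card F - 1) * z := by
      rw [← pow_succ, Nat.sub_add_cancel hq.le]
    rw [this, hz, one_mul, sub_self]
  have hS : insert z (Finset.univ.image (algebraMap F L)) ⊆ P.roots.toFinset := by
    intro y hy
    rw [Multiset.mem_toFinset]
    rcases Finset.mem_insert.1 hy with rfl | hy
    · exact hzr
    · obtain ⟨c, _, rfl⟩ := Finset.mem_image.1 hy
      rw [mem_roots hP0, IsRoot.def, eval_sub, eval_pow, eval_X, ← map_pow, Nat.card_eq_fintype_card,
        FiniteField.pow_card, sub_self]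
  have h1 := Finset.card_le_card hS
  rw [Finset.card_insert_of_notMem (by
      intro h
      obtain ⟨c, _, hc⟩ := Finset.mem_image.1 h
      exact hcon c hc),
    Finset.card_image_of_injective _ (algebraMap F L).injective, Finset.card_univ,
    ← Nat.card_eq_fintype_card] at h1
  have h2 := (Multiset.toFinset_card_le P.roots).trans (card_roots' P)
  rw [hdeg] at h2
  omega

/-- `1 + q + ... + q ^ (n-1) ≡ n` modulo `q - 1`. -/
theorem geom_modEq {q : ℕ} (hq : 1 ≤ q) (n : ℕ) :
    ∑ i ∈ Finset.range n, q ^ i ≡ n [MOD (q - 1)] := by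
  have h1 : q ≡ 1 [MOD (q - 1)] := by
    have := Nat.ModEq.symm ((Nat.modEq_iff_dvd' hq).2 (dvd_refl (q - 1)))
    exact this
  have h2 : ∑ i ∈ Finset.range n, q ^ i ≡ ∑ i ∈ Finset.range n, 1 [MOD (q - 1)] := by
    induction n with
    | zero => rfl
    | succ n ih =>
      rw [Finset.sum_range_succ, Finset.sum_range_succ]
      exact ih.add (by simpa using h1.pow n)
  simpa using h2

theorem geom_two_mul (q m : ℕ) :
    ∑ i ∈ Finset.range (2 * m), q ^ i = (∑ i ∈ Finset.range m, q ^ i) * (q ^ m + 1) := by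
  rw [two_mul, Finset.sum_range_add, mul_add, mul_one, add_comm, Finset.sum_mul]
  congr 1
  exact Finset.sum_congr rfl fun i _ => by rw [pow_add, mul_comm]

end Cfsg.Agent.H155.Cyc
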